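import Groth.Agent.AWNLib.Scheme
import Groth.Agent.AWNLib.SNTensor
import Groth.Prelude.Def_HTop2

/-!
# Lifts through universal homeomorphisms with trivial residue extensions out of seminormal schemes
-/

set_option backward.isDefEq.respectTransparency false
set_option backward.isDefEq.respectTransparency.types false

universe u

open AlgebraicGeometry CategoryTheory TensorProduct

namespace SeminormResLib

/-- A universal homeomorphism of rings with trivial residue extensions admits lifts to seminormal rings. -/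
theorem exists_ring_lift {A B C : Type u} [CommRing A] [CommRing B] [CommRing C] (f : A →+* B) (g : A →+* C)
    (hf : FlatMor.IsUnivHomeo (Spec.map (CommRingCat.ofHom f)))
    (hRF : ∀ (Q : PrimeSpectrum B) (b : B), AWNLib.RF f Q b)
    (hC : HTop.IsSeminormalRing C) : ∃ χ : B →+* C, χ.comp f = g := by
  letI := f.toAlgebra
  letI := g.toAlgebra
  let q : B ⊗[A] C →+* (B ⊗[A] C) ⧸ nilradical (B ⊗[A] C) := Ideal.Quotient.mk _
  have : IsReduced ((B ⊗[A] C) ⧸ nilradical (B ⊗[A] C)) :=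
    (Ideal.isRadical_iff_quotient_reduced _).1 (Ideal.radical_isRadical _)
  let inr : C →+* B ⊗[A] C := (Algebra.TensorProduct.includeRight (R := A) (A := B) (B := C)).toRingHom
  let h := q.comp inr
  have hq : Function.Surjective q := Ideal.Quotient.mk_surjective
  have hh : FlatMor.IsUnivHomeo (Spec.map (CommRingCat.ofHom h)) := by
    obtain ⟨h1, h2, h3⟩ := (AWNLib.univHomeo_iff inr).1 (AWNLib.univHomeo_includeRight (B := B) (W := C) hf)
    refine (AWNLib.univHomeo_iff h).2 ⟨h1.trans _ _ (RingHom.isIntegral_of_surjective q hq), fun P => ?_,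
      fun K _ g₁ g₂ e => (RingHom.cancel_right hq).1 (h3 K _ _ e)⟩
    obtain ⟨P', rfl⟩ := h2 P
    have hP' : P' ∈ Set.range (PrimeSpectrum.comap q) := by
      rw [range_comap_of_surjective _ q hq]
      simp only [q, Ideal.mk_ker, PrimeSpectrum.mem_zeroLocus]
      exact nilradical_le_prime _
    obtain ⟨Q, rfl⟩ := hP'
    exact ⟨Q, rfl⟩
  have hall : ∀ (Q : PrimeSpectrum ((B ⊗[A] C) ⧸ nilradical (B ⊗[A] C))) (z : B ⊗[A] C), AWNLib.RF h Q (q z) := by
    intro Q z
    induction z using TensorProduct.induction_on with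
    | zero => rw [map_zero, ← map_zero h]; exact AWNLib.RF.of_map h Q 0
    | add x y hx hy => rw [map_add]; exact hx.add hy
    | tmul b c =>
      have e : q (b ⊗ₜ[A] c) = q (b ⊗ₜ[A] 1) * h c := by
        show _ = q (b ⊗ₜ[A] 1) * q ((1 : B) ⊗ₜ[A] c)
        rw [← map_mul, Algebra.TensorProduct.tmul_mul_tmul, mul_one, one_mul]
      rw [e]
      refine AWNLib.RF.mul ?_ (AWNLib.RF.of_map h Q c)
      let inl : B →+* B ⊗[A] C := Algebra.TensorProduct.includeLeftRingHom
      obtain ⟨a, s, hs, hb⟩ := hRF (PrimeSpectrum.comap (q.comp inl) Q) b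
      have key : ∀ r : A, h (g r) = q (inl (f r)) := fun r => by
        show q ((1 : B) ⊗ₜ[A] g r) = q (f r ⊗ₜ[A] (1 : C))
        congr 1
        show (1 : B) ⊗ₜ[A] algebraMap A C r = algebraMap A B r ⊗ₜ[A] (1 : C)
        rw [Algebra.algebraMap_eq_smul_one, Algebra.algebraMap_eq_smul_one, TensorProduct.smul_tmul]
      refine ⟨g a, g s, by rw [key]; exact hs, ?_⟩
      rw [key, key]
      show q (inl (f s)) * q (inl b) - q (inl (f a)) ∈ _
      rw [← map_mul, ← map_mul, ← map_sub, ← map_sub]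
      exact hb
  obtain ⟨-, hs, -⟩ := (AWNLib.univHomeo_iff h).1 hh
  have := AWNLib.isReduced_of_isSeminormalRing hC
  have hinj : Function.Injective h := (injective_iff_map_eq_zero h).2 fun c hc =>
    (AWNLib.isNilpotent_of_surjective_comap h hs hc).eq_zero
  have hsurj : Function.Surjective h := fun w => by
    obtain ⟨z, rfl⟩ := hq w
    exact AWNLib.mem_range_of_RF h hC hh _ fun Q => hall Q z
  let e := RingEquiv.ofBijective h ⟨hinj, hsurj⟩
  refine ⟨e.symm.toRingHom.comp (q.comp Algebra.TensorProduct.includeLeftRingHom), RingHom.ext fun r => ?_⟩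
  refine e.injective ((e.apply_symm_apply _).trans ?_)
  show q (algebraMap A B r ⊗ₜ[A] (1 : C)) = q ((1 : B) ⊗ₜ[A] algebraMap A C r)
  rw [Algebra.algebraMap_eq_smul_one, Algebra.algebraMap_eq_smul_one, TensorProduct.smul_tmul]

variable {S U Y : Scheme.{u}}

theorem residueFieldsIso_restrict (π : Y ⟶ U) (hr : HTop.ResidueFieldsIso π) (V : U.Opens) :
    HTop.ResidueFieldsIso (π ∣_ V) := fun x => by
  have h : ∀ x, IsIso (((π ⁻¹ᵁ V).ι ≫ π).residueFieldMap x) := fun x => by
    rw [Scheme.residueFieldMap_comp]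
    have := hr ((π ⁻¹ᵁ V).ι x)
    infer_instance
  rw [← morphismRestrict_ι π V] at h
  have := h x
  rw [Scheme.residueFieldMap_comp] at this
  exact IsIso.of_isIso_comp_left (V.ι.residueFieldMap _) _

theorem RF_app (π : Y ⟶ U) [IsAffineHom π] (hr : HTop.ResidueFieldsIso π) (V : U.Opens) (hV : IsAffineOpen V)
    (Q : PrimeSpectrum Γ(Y, π ⁻¹ᵁ V)) (b : Γ(Y, π ⁻¹ᵁ V)) : AWNLib.RF (π.app V).hom Q b := by
  refine (AWNLib.residueFieldMap_surjective_iff (π.app V).hom).1 (fun x => ?_) Q b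
  have hW : IsAffineOpen (π ⁻¹ᵁ V) := hV.preimage π
  have e : Spec.map (π.app V) = hW.isoSpec.inv ≫ (π ∣_ V) ≫ hV.isoSpec.hom := by
    rw [← cancel_mono hV.fromSpec]
    simp only [Category.assoc, IsAffineOpen.isoSpec_hom_fromSpec, morphismRestrict_ι,
      IsAffineOpen.isoSpec_inv_ι_assoc, Scheme.Hom.app_eq_appLE]
    exact IsAffineOpen.SpecMap_appLE_fromSpec π hV hW _
  have h : ∀ x, IsIso ((hW.isoSpec.inv ≫ (π ∣_ V) ≫ hV.isoSpec.hom).residueFieldMap x) := fun x => by
    rw [Scheme.residueFieldMap_comp, Scheme.residueFieldMap_comp]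
    have := residueFieldsIso_restrict π hr V (hW.isoSpec.inv x)
    infer_instance
  rw [← e] at h
  have := h x
  exact (ConcreteCategory.bijective_of_isIso ((Spec.map (π.app V)).residueFieldMap x)).2

theorem isReduced_of_isSeminormal (hS : HTop.IsSeminormal S) : AlgebraicGeometry.IsReduced S := by
  let 𝒰 := S.openCoverOfIsOpenCover (fun V : S.affineOpens => (V : S.Opens)) (iSup_affineOpens_eq_top S)
  have : ∀ i, AlgebraicGeometry.IsReduced (𝒰.X i) := fun V => by
    have : IsAffine (V.1 : S.Opens).toScheme := V.2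
    have := AWNLib.isReduced_of_isSeminormalRing (AWNLib.isSeminormal_iff.1 hS V)
    have : _root_.IsReduced Γ((V.1 : S.Opens).toScheme, ⊤) :=
      isReduced_of_injective (V.1 : S.Opens).topIso.hom.hom
        (V.1 : S.Opens).topIso.commRingCatIsoToRingEquiv.injective
    exact isReduced_of_isAffine_isReduced (X := (V.1 : S.Opens).toScheme)
  exact IsReduced.of_openCover _ 𝒰

theorem isSeminormal_opens {X : Scheme.{u}} (hX : HTop.IsSeminormal X) (W : X.Opens) :
    HTop.IsSeminormal W.toScheme :=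
  AWNLib.isSeminormal_iff.2 fun V => AWNLib.isSeminormalRing_of_ringEquiv
    (W.ι.appIso V.1).commRingCatIsoToRingEquiv
    (AWNLib.isSeminormal_iff.1 hX ⟨W.ι ''ᵁ V.1, V.2.image_of_isOpenImmersion W.ι⟩)

theorem exists_lift (p : S ⟶ U) [IsAffineHom p] (hS : HTop.IsSeminormal S) (π : Y ⟶ U)
    (hπ : FlatMor.IsUnivHomeo π) (hr : HTop.ResidueFieldsIso π) : ∃ g : S ⟶ Y, g ≫ π = p := by
  obtain ⟨h1, -, -⟩ := (Groth.Agent.S0415.result π).1 hπ
  let 𝒰 := S.openCoverOfIsOpenCover (fun V : U.affineOpens => p ⁻¹ᵁ V.1)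
    (show ⨆ V : U.affineOpens, p ⁻¹ᵁ V.1 = ⊤ by rw [← Scheme.Hom.preimage_iSup, iSup_affineOpens_eq_top U]; rfl)
  have loc : ∀ i, ∃ g : 𝒰.X i ⟶ Y, g ≫ π = 𝒰.f i ≫ p := by
    intro V
    have hV : IsAffineOpen V.1 := V.2
    have hp : IsAffineOpen (p ⁻¹ᵁ V.1) := hV.preimage p
    have hy : IsAffineOpen (π ⁻¹ᵁ V.1) := hV.preimage π
    obtain ⟨χ, hχ⟩ := exists_ring_lift (π.app V.1).hom (p.app V.1).hom (AWNLib.univHomeo_app π hπ V.1 hV)
      (RF_app π hr V.1 hV) (AWNLib.isSeminormal_iff.1 hS ⟨_, hp⟩)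
    refine ⟨hp.isoSpec.hom ≫ Spec.map (CommRingCat.ofHom χ) ≫ hy.fromSpec, ?_⟩
    show _ = (p ⁻¹ᵁ V.1).ι ≫ p
    rw [← hp.isoSpec_hom_fromSpec, Category.assoc, Category.assoc, Category.assoc]
    congr 1
    rw [← IsAffineOpen.SpecMap_appLE_fromSpec π hV hy le_rfl, ← IsAffineOpen.SpecMap_appLE_fromSpec p hV hp le_rfl,
      ← Scheme.Hom.app_eq_appLE, ← Scheme.Hom.app_eq_appLE, ← Category.assoc, ← Spec.map_comp]
    congr 2
    ext1
    exact hχ
  choose g hg using loc
  have := isReduced_of_isSeminormal hS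
  refine ⟨𝒰.glueMorphisms g fun V W => ?_, 𝒰.hom_ext _ _ fun V => ?_⟩
  · have : AlgebraicGeometry.IsReduced (Limits.pullback (𝒰.f V) (𝒰.f W)) :=
      isReduced_of_isOpenImmersion (Limits.pullback.fst (𝒰.f V) (𝒰.f W) ≫ 𝒰.f V)
    refine AWNLib.eq_of_comp_univHomeo π hπ ?_
    rw [Category.assoc, Category.assoc, hg, hg, Limits.pullback.condition_assoc]
  · rw [Scheme.Cover.ι_glueMorphisms_assoc, hg]

theorem isSeminormalization_restrict {X' X : Scheme.{u}} (ν : X' ⟶ X)
    (hν : FlatMor.IsUnivHomeo ν) (hr : HTop.ResidueFieldsIso ν) (hX' : HTop.IsSeminormal X') (U : X.Opens) :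
    HTop.IsSeminormalization (ν ∣_ U) := by
  have : MorphismProperty.IsStableUnderBaseChange FlatMor.IsUnivHomeo.{u} :=
    MorphismProperty.universally_isStableUnderBaseChange _
  have hU : FlatMor.IsUnivHomeo (ν ∣_ U) :=
    MorphismProperty.of_isPullback (isPullback_morphismRestrict ν U).flip hν
  have hS := isSeminormal_opens hX' (ν ⁻¹ᵁ U)
  refine ⟨⟨hU, residueFieldsIso_restrict ν hr U⟩, fun Y π hπ hπr => ?_⟩
  have : IsIntegralHom (ν ∣_ U) := ((Groth.Agent.S0415.result _).1 hU).1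
  have := isReduced_of_isSeminormal hS
  obtain ⟨g, hg⟩ := exists_lift (ν ∣_ U) hS π hπ hπr
  exact ⟨g, hg, fun g' hg' => AWNLib.eq_of_comp_univHomeo π hπ (hg'.trans hg.symm)⟩

end SeminormResLib
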