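import Groth.Agent.SeminormResLib.Main
import Groth.Prelude.Def_Pi1

/-!
# Normal schemes are seminormal
-/

set_option backward.isDefEq.respectTransparency false
set_option backward.isDefEq.respectTransparency.types false

universe u

open AlgebraicGeometry CategoryTheory

namespace SeminormResLib

theorem isSeminormalRing_of_integrallyClosed (D : Type u) [CommRing D] [IsDomain D] [IsIntegrallyClosed D] :
    HTop.IsSeminormalRing D := by
  intro x y h
  have hx : ∃ a : D, x = a ^ 2 ∧ y = a ^ 3 := by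
    by_cases hx : x = 0
    · exact ⟨0, by simp [hx], by
        subst hx
        simp only [ne_eq, OfNat.ofNat_ne_zero, not_false_eq_true, zero_pow] at h ⊢
        exact (pow_eq_zero_iff (by norm_num)).1 h.symm⟩
    · let K := FractionRing D
      have hx' : algebraMap D K x ≠ 0 := (map_ne_zero_iff _ (IsFractionRing.injective D K)).2 hx
      have h' : algebraMap D K x ^ 3 = algebraMap D K y ^ 2 := by rw [← map_pow, ← map_pow, h]
      have h2 : (algebraMap D K y / algebraMap D K x) ^ 2 = algebraMap D K x := by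
        rw [div_pow, ← h', div_eq_iff (pow_ne_zero 2 hx')]
        ring
      have hi : IsIntegral D (algebraMap D K y / algebraMap D K x) :=
        IsIntegral.of_pow (n := 2) (by norm_num) (by rw [h2]; exact isIntegral_algebraMap)
      obtain ⟨a, ha⟩ := IsIntegrallyClosed.isIntegral_iff.1 hi
      refine ⟨a, IsFractionRing.injective D K ?_, IsFractionRing.injective D K ?_⟩
      · rw [map_pow, ha, h2]
      · rw [map_pow, ha, pow_succ, h2, mul_div_cancel₀ _ hx']
  obtain ⟨a, ha⟩ := hx
  exact ⟨a, ha, fun b hb => AWNLib.eq_of_sq_cube_reduced (hb.1.symm.trans ha.1) (hb.2.symm.trans ha.2)⟩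

/-- A ring all of whose localizations at primes are seminormal is seminormal. -/
theorem isSeminormalRing_of_primes (A : Type u) [CommRing A]
    (L : PrimeSpectrum A → Type u) [∀ p, CommRing (L p)] [∀ p, Algebra A (L p)]
    [∀ p : PrimeSpectrum A, IsLocalization.AtPrime (L p) p.asIdeal] (h : ∀ p, HTop.IsSeminormalRing (L p)) :
    HTop.IsSeminormalRing A := by
  intro x y hxy
  have hzero : ∀ r : A, (∀ p, algebraMap A (L p) r = 0) → r = 0 := fun r hr => by
    by_contra hne
    obtain ⟨m, hm, hle⟩ := Ideal.exists_le_maximal (Ideal.span {r}).annihilator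
      (fun he => hne (by
        have h1 : (1 : A) ∈ (Ideal.span {r}).annihilator := he ▸ Submodule.mem_top
        simpa using Submodule.mem_annihilator.1 h1 r (Ideal.subset_span rfl)))
    haveI : IsLocalization m.primeCompl (L ⟨m, hm.isPrime⟩) :=
      inferInstanceAs (IsLocalization.AtPrime (L ⟨m, hm.isPrime⟩) (⟨m, hm.isPrime⟩ : PrimeSpectrum A).asIdeal)
    obtain ⟨⟨s, hs⟩, hs'⟩ := (IsLocalization.map_eq_zero_iff m.primeCompl (L ⟨m, hm.isPrime⟩) r).1 (hr _)
    refine hs (hle (Submodule.mem_annihilator.2 fun z hz => ?_))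
    obtain ⟨c, rfl⟩ := Ideal.mem_span_singleton'.1 hz
    show s * (c * r) = 0
    rw [mul_left_comm, hs', mul_zero]
  have hred : IsReduced A := ⟨fun r ⟨n, hn⟩ => hzero r fun p => by
    have := AWNLib.isReduced_of_isSeminormalRing (h p)
    exact IsReduced.eq_zero _ ⟨n, by rw [← map_pow, hn, map_zero]⟩⟩
  have hroot : ∀ p, ∃! a : L p, algebraMap A (L p) x = a ^ 2 ∧ algebraMap A (L p) y = a ^ 3 := fun p =>
    h p _ _ (by rw [← map_pow, ← map_pow, hxy])
  choose a ha hau using hroot
  let I : Ideal A :=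
    { carrier := {t | ∃ c : A, ∀ p, algebraMap A (L p) c = algebraMap A (L p) t * a p}
      zero_mem' := ⟨0, fun p => by simp⟩
      add_mem' := fun {t t'} ⟨c, hc⟩ ⟨c', hc'⟩ => ⟨c + c', fun p => by rw [map_add, map_add, hc, hc', add_mul]⟩
      smul_mem' := fun r t ⟨c, hc⟩ => ⟨r * c, fun p => by rw [smul_eq_mul, map_mul, map_mul, hc, mul_assoc]⟩ }
  have hI : I = ⊤ := by
    by_contra hne
    obtain ⟨m, hm, hle⟩ := Ideal.exists_le_maximal I hne
    let p : PrimeSpectrum A := ⟨m, hm.isPrime⟩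
    haveI : IsLocalization m.primeCompl (L p) := inferInstanceAs (IsLocalization.AtPrime (L p) p.asIdeal)
    obtain ⟨⟨c, s⟩, hc⟩ := IsLocalization.surj m.primeCompl (a p)
    replace hc : a p * algebraMap A (L p) (s : A) = algebraMap A (L p) c := hc
    obtain ⟨u₁, hu₁⟩ := (IsLocalization.eq_iff_exists m.primeCompl (L p)).1
      (show algebraMap A (L p) (c ^ 2) = algebraMap A (L p) ((s : A) ^ 2 * x) by
        rw [map_pow, map_mul, map_pow, (ha p).1, ← hc]; ring)
    obtain ⟨u₂, hu₂⟩ := (IsLocalization.eq_iff_exists m.primeCompl (L p)).1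
      (show algebraMap A (L p) (c ^ 3) = algebraMap A (L p) ((s : A) ^ 3 * y) by
        rw [map_pow, map_mul, map_pow, (ha p).2, ← hc]; ring)
    refine (u₁ * u₂ * s).2 (hle ⟨(u₁ : A) * u₂ * c, fun q => ?_⟩)
    have := AWNLib.isReduced_of_isSeminormalRing (h q)
    apply AWNLib.eq_of_sq_cube_reduced
    · rw [mul_pow, ← (ha q).1]
      simp only [Submonoid.coe_mul, ← map_pow, ← map_mul]
      congr 1
      linear_combination ((u₁ : A) * (u₂ : A) ^ 2) * hu₁
    · rw [mul_pow, ← (ha q).2]
      simp only [Submonoid.coe_mul, ← map_pow, ← map_mul]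
      congr 1
      linear_combination ((u₁ : A) ^ 3 * (u₂ : A) ^ 2) * hu₂
  obtain ⟨c, hc⟩ := hI.symm ▸ Submodule.mem_top (R := A) (x := (1 : A))
  simp only [map_one, one_mul] at hc
  refine ⟨c, ⟨sub_eq_zero.1 (hzero _ fun p => ?_), sub_eq_zero.1 (hzero _ fun p => ?_)⟩, fun b hb => ?_⟩
  · rw [map_sub, map_pow, hc, ← (ha p).1, sub_self]
  · rw [map_sub, map_pow, hc, ← (ha p).2, sub_self]
  · refine sub_eq_zero.1 (hzero _ fun p => ?_)
    rw [map_sub, hc, hau p (algebraMap A (L p) b) ⟨by rw [hb.1, map_pow], by rw [hb.2, map_pow]⟩, sub_self]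

theorem isSeminormal_of_isNormalScheme {X : Scheme.{u}} (hn : Pi1.IsNormalScheme X) : HTop.IsSeminormal X := by
  refine AWNLib.isSeminormal_iff.2 fun U => ?_
  let hU : IsAffineOpen U.1 := U.2
  have hmem : ∀ p : PrimeSpectrum Γ(X, U.1), hU.fromSpec p ∈ U.1 := fun p => by
    rw [← SetLike.mem_coe, ← hU.range_fromSpec]
    exact ⟨p, rfl⟩
  letI : ∀ p : PrimeSpectrum Γ(X, U.1), Algebra Γ(X, U.1) (X.presheaf.stalk (hU.fromSpec p)) :=
    fun p => TopCat.Presheaf.algebra_section_stalk X.presheaf ⟨hU.fromSpec p, hmem p⟩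
  haveI := fun p : PrimeSpectrum Γ(X, U.1) => hU.isLocalization_stalk' p (hmem p)
  refine isSeminormalRing_of_primes Γ(X, U.1) (fun p => X.presheaf.stalk (hU.fromSpec p)) fun p => ?_
  obtain ⟨h1, h2⟩ := hn (hU.fromSpec p)
  exact isSeminormalRing_of_integrallyClosed _

end SeminormResLib
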