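import Groth.Agent.SeminormResLib.Main
import Groth.Agent.SeminormResLib.Normal

/-!
# Descent of functions along proper surjective morphisms to seminormal schemes
-/

set_option backward.isDefEq.respectTransparency false
set_option backward.isDefEq.respectTransparency.types false

universe u

open AlgebraicGeometry CategoryTheory TensorProduct Opposite

namespace SeminormResLib

variable {X Y : Scheme.{u}}

theorem fromSpecResidueField_appTop (y : Y) :
    (Y.fromSpecResidueField y).appTop = Y.Γevaluation y ≫ (Scheme.ΓSpecIso (Y.residueField y)).inv := by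
  rw [Scheme.fromSpecResidueField, Scheme.Hom.comp_appTop, Scheme.fromSpecStalk_appTop,
    Category.assoc, Category.assoc]
  show _ = (Y.presheaf.germ ⊤ y trivial ≫ Y.residue y) ≫ _
  rw [Category.assoc, Scheme.ΓSpecIso_inv_naturality]
  congr 2

/-- The value at a point of a function on the base, pulled back. -/
noncomputable def evA (π : Y ⟶ X) (y : Y) : Γ(X, ⊤) →+* Y.residueField y :=
  (Y.Γevaluation y).hom.comp π.appTop.hom

theorem evA_eq (π : Y ⟶ X) (y : Y) (a : Γ(X, ⊤)) :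
    evA π y a = π.residueFieldMap y (X.Γevaluation (π y) a) :=
  (Scheme.Γevaluation_naturality_apply π y a).symm

theorem eq_zero_of_evaluation [IsReduced Y] (s : Γ(Y, ⊤)) (h : ∀ y, Y.Γevaluation y s = 0) : s = 0 :=
  eq_zero_of_basicOpen_eq_bot s ((Scheme.basicOpen_eq_bot_iff_forall_evaluation_eq_zero _ s).2 fun y => h y.1)

theorem value_core {A K₀ : Type u} [CommRing A] [Field K₀] (f₀ : A →+* K₀) (z₀ : K₀) :
    ∃ a s' : A, f₀ s' ≠ 0 ∧ ∀ (K : Type u) [Field K] (f : A →+* K) (z : K), RingHom.ker f = RingHom.ker f₀ →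
      (letI := f.toAlgebra; letI := f₀.toAlgebra; z ⊗ₜ[A] (1 : K₀) = (1 : K) ⊗ₜ[A] z₀) → f s' * z = f a := by
  classical
  let p := RingHom.ker f₀
  haveI : p.IsPrime := RingHom.ker_isPrime _
  letI : Algebra A K₀ := f₀.toAlgebra
  let ι₀ : p.ResidueField →+* K₀ := Ideal.ResidueField.lift p f₀ le_rfl
    (fun a ha => isUnit_iff_ne_zero.2 fun h => ha h)
  letI : Algebra p.ResidueField K₀ := ι₀.toAlgebra
  haveI : IsScalarTower A p.ResidueField K₀ := IsScalarTower.of_algebraMap_eq fun a =>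
    (Ideal.ResidueField.lift_algebraMap _ f₀ le_rfl _ a).symm
  obtain ⟨φ, hφ⟩ := (Algebra.linearMap p.ResidueField K₀).exists_leftInverse_of_injective
    (LinearMap.ker_eq_bot.2 ι₀.injective)
  have hφ1 : φ 1 = 1 := by
    simpa using LinearMap.congr_fun hφ 1
  obtain ⟨a, s', hs', hc⟩ := IsFractionRing.div_surjective (A := A ⧸ p) (φ z₀)
  obtain ⟨a, rfl⟩ := Ideal.Quotient.mk_surjective a
  obtain ⟨s', rfl⟩ := Ideal.Quotient.mk_surjective s'
  have hs0 : f₀ s' ≠ 0 := fun h => nonZeroDivisors.ne_zero hs' (Ideal.Quotient.eq_zero_iff_mem.2 h)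
  refine ⟨a, s', hs0, fun K _ f z hy e' => ?_⟩
  letI : Algebra A K := f.toAlgebra
  let ι : p.ResidueField →+* K := Ideal.ResidueField.lift p f hy.ge
    (fun b hb => isUnit_iff_ne_zero.2 fun h => hb (show b ∈ RingHom.ker f₀ by rw [← hy]; exact h))
  let ιA : p.ResidueField →ₐ[A] K :=
    { ι with commutes' := fun b => Ideal.ResidueField.lift_algebraMap _ f hy.ge _ b }
  let ψ : K ⊗[A] K₀ →ₗ[A] K :=
    (LinearMap.mul' A K).comp (TensorProduct.map LinearMap.id (ιA.toLinearMap.comp (φ.restrictScalars A)))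
  have e2 := congrArg ψ e'
  simp only [ψ, LinearMap.coe_comp, Function.comp_apply, TensorProduct.map_tmul, LinearMap.id_coe, id_eq,
    LinearMap.mul'_apply, LinearMap.coe_restrictScalars, AlgHom.toLinearMap_apply, hφ1, map_one, mul_one,
    one_mul] at e2
  rw [e2, ← hc, map_div₀]
  have h1 : ∀ b, ιA (algebraMap (A ⧸ p) p.ResidueField (Ideal.Quotient.mk p b)) = f b := fun b => by
    rw [← Ideal.Quotient.algebraMap_eq, ← IsScalarTower.algebraMap_apply]
    exact ιA.commutes b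
  rw [h1, h1]
  exact mul_div_cancel₀ _ fun h => hs0 (show s' ∈ RingHom.ker f₀ by rw [← hy]; exact h)

theorem balanced {A K K₀ : Type u} [CommRing A] [CommRing K] [CommRing K₀] (f : A →+* K) (f₀ : A →+* K₀) :
    letI := f.toAlgebra; letI := f₀.toAlgebra
    (Algebra.TensorProduct.includeLeftRingHom : K →+* K ⊗[A] K₀).comp f =
      (Algebra.TensorProduct.includeRight : K₀ →ₐ[A] K ⊗[A] K₀).toRingHom.comp f₀ := by
  letI := f.toAlgebra; letI := f₀.toAlgebra
  ext b
  show (algebraMap A K b) ⊗ₜ[A] (1 : K₀) = (1 : K) ⊗ₜ[A] algebraMap A K₀ b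
  rw [Algebra.algebraMap_eq_smul_one, Algebra.algebraMap_eq_smul_one, TensorProduct.smul_tmul]

theorem tensor_eq [IsAffine X] (π : Y ⟶ X) (s : Γ(Y, ⊤))
    (hs : (Limits.pullback.fst π π).appTop s = (Limits.pullback.snd π π).appTop s)
    {K K₀ : Type u} [CommRing K] [CommRing K₀] (a : Spec (CommRingCat.of K) ⟶ Y) (b : Spec (CommRingCat.of K₀) ⟶ Y)
    (ev : Γ(Y, ⊤) ⟶ CommRingCat.of K) (ev₀ : Γ(Y, ⊤) ⟶ CommRingCat.of K₀)
    (ha : a.appTop = ev ≫ (Scheme.ΓSpecIso _).inv) (hb : b.appTop = ev₀ ≫ (Scheme.ΓSpecIso _).inv) :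
    letI := (ev.hom.comp π.appTop.hom).toAlgebra; letI := (ev₀.hom.comp π.appTop.hom).toAlgebra
    (ev.hom s) ⊗ₜ[Γ(X, ⊤)] (1 : K₀) = (1 : K) ⊗ₜ[Γ(X, ⊤)] (ev₀.hom s) := by
  letI := (ev.hom.comp π.appTop.hom).toAlgebra; letI := (ev₀.hom.comp π.appTop.hom).toAlgebra
  let T := K ⊗[Γ(X, ⊤)] K₀
  let jl : CommRingCat.of K ⟶ CommRingCat.of T := CommRingCat.ofHom Algebra.TensorProduct.includeLeftRingHom
  let jr : CommRingCat.of K₀ ⟶ CommRingCat.of T :=
    CommRingCat.ofHom (Algebra.TensorProduct.includeRight : K₀ →ₐ[Γ(X, ⊤)] T).toRingHom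
  have hbal : π.appTop ≫ ev ≫ jl = π.appTop ≫ ev₀ ≫ jr :=
    CommRingCat.hom_ext (balanced (ev.hom.comp π.appTop.hom) (ev₀.hom.comp π.appTop.hom))
  have cond : (Spec.map jl ≫ a) ≫ π = (Spec.map jr ≫ b) ≫ π := by
    apply ext_of_isAffine
    simp only [Scheme.Hom.comp_appTop, ha, hb, Category.assoc, ← Scheme.ΓSpecIso_inv_naturality]
    simpa only [Category.assoc] using congrArg (· ≫ (Scheme.ΓSpecIso (CommRingCat.of T)).inv) hbal
  have e := congrArg (Limits.pullback.lift _ _ cond).appTop hs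
  rw [← ConcreteCategory.comp_apply, ← ConcreteCategory.comp_apply, ← Scheme.Hom.comp_appTop,
    ← Scheme.Hom.comp_appTop, Limits.pullback.lift_fst, Limits.pullback.lift_snd] at e
  simp only [Scheme.Hom.comp_appTop, ha, hb, Category.assoc, ← Scheme.ΓSpecIso_inv_naturality] at e
  exact (ConcreteCategory.bijective_of_isIso (Scheme.ΓSpecIso (CommRingCat.of T)).inv).1 e

/-- The value of a descending function on a fibre is a constant. -/
theorem exists_value [IsAffine X] (π : Y ⟶ X) (s : Γ(Y, ⊤))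
    (hs : (Limits.pullback.fst π π).appTop s = (Limits.pullback.snd π π).appTop s) (y₀ : Y) :
    ∃ a s' : Γ(X, ⊤), evA π y₀ s' ≠ 0 ∧ ∀ y : Y, RingHom.ker (evA π y) = RingHom.ker (evA π y₀) →
      evA π y s' * Y.Γevaluation y s = evA π y a := by
  obtain ⟨a, s', h0, h⟩ := value_core (evA π y₀) (Y.Γevaluation y₀ s)
  refine ⟨a, s', h0, fun y hy => h _ (evA π y) _ hy ?_⟩
  exact tensor_eq π s hs (Y.fromSpecResidueField y) (Y.fromSpecResidueField y₀) (Y.Γevaluation y)
    (Y.Γevaluation y₀) (fromSpecResidueField_appTop y) (fromSpecResidueField_appTop y₀)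

/-- Descent over an affine seminormal base. -/
theorem exists_descent_affine [IsAffine X] (hX : HTop.IsSeminormalRing Γ(X, ⊤)) (π : Y ⟶ X) [IsProper π]
    [Surjective π] [IsReduced Y] (s : Γ(Y, ⊤))
    (hs : (Limits.pullback.fst π π).appTop s = (Limits.pullback.snd π π).appTop s) :
    ∃ t : Γ(X, ⊤), π.appTop t = s := by
  classical
  letI : Algebra Γ(X, ⊤) Γ(Y, ⊤) := π.appTop.hom.toAlgebra
  let C : Subalgebra Γ(X, ⊤) Γ(Y, ⊤) := Algebra.adjoin Γ(X, ⊤) {s}
  let g : Γ(X, ⊤) →+* C := algebraMap Γ(X, ⊤) C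
  haveI : _root_.IsReduced Γ(X, ⊤) := AWNLib.isReduced_of_isSeminormalRing hX
  haveI : IsReduced X := isReduced_of_isAffine_isReduced X
  haveI : _root_.IsReduced C := isReduced_of_injective C.val Subtype.val_injective
  have hint : g.IsIntegral := AWNLib.sub_isIntegral C (isIntegral_appTop_of_universallyClosed π)
  have hinj : Function.Injective g := (injective_iff_map_eq_zero g).2 fun a ha => by
    refine eq_zero_of_evaluation a fun x => ?_
    obtain ⟨y, rfl⟩ := π.surjective x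
    refine (π.residueFieldMap y).hom.injective ?_
    rw [map_zero, ← evA_eq]
    exact (congrArg (Y.Γevaluation y) (congrArg Subtype.val ha : π.appTop a = 0)).trans (map_zero _)
  let φ : Y ⟶ Spec (CommRingCat.of C) := Y.toSpecΓ ≫ Spec.map (CommRingCat.ofHom C.val.toRingHom)
  have hφ : ∀ (y : Y) (c : C), (c ∈ (φ y).asIdeal ↔ Y.Γevaluation y (c : Γ(Y, ⊤)) = 0) := fun y c => by
    rw [Scheme.evaluation_eq_zero_iff_notMem_basicOpen, ← Scheme.toSpecΓ_preimage_basicOpen]
    exact not_not.symm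
  haveI : IsProper φ := by
    have : φ ≫ Spec.map (CommRingCat.ofHom g) = π ≫ X.isoSpec.hom := by
      rw [Category.assoc, ← Spec.map_comp]
      exact (Scheme.toSpecΓ_naturality π).symm
    haveI : IsProper (φ ≫ Spec.map (CommRingCat.ofHom g)) := by rw [this]; infer_instance
    exact IsProper.of_comp φ (Spec.map (CommRingCat.ofHom g))
  have hQ : ∀ Q : PrimeSpectrum C, ∃ y, φ y = Q := fun Q => by
    have hc : IsClosed (Set.range φ) := φ.isClosedMap.isClosed_range
    obtain ⟨I, hI⟩ := (PrimeSpectrum.isClosed_iff_zeroLocus_ideal _).1 hc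
    have : I = ⊥ := by
      refine eq_bot_iff.2 fun c hc' => Subtype.ext (eq_zero_of_evaluation _ fun y => ?_)
      have : φ y ∈ PrimeSpectrum.zeroLocus (I : Set C) := hI ▸ ⟨y, rfl⟩
      exact (hφ y c).1 (this hc')
    have : Q ∈ Set.range φ := by rw [hI, this]; simp
    exact this
  have hg : FlatMor.IsUnivHomeo (Spec.map (CommRingCat.ofHom g)) := by
    refine (AWNLib.univHomeo_iff g).2 ⟨hint, hint.comap_surjective hinj, fun K _ g₁ g₂ h => ?_⟩
    obtain ⟨y₁, hy₁⟩ := hQ ⟨RingHom.ker g₁, RingHom.ker_isPrime g₁⟩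
    obtain ⟨y₂, hy₂⟩ := hQ ⟨RingHom.ker g₂, RingHom.ker_isPrime g₂⟩
    have k₁ : ∀ c, g₁ c = 0 ↔ Y.Γevaluation y₁ (c : Γ(Y, ⊤)) = 0 := fun c => by
      rw [← hφ, hy₁]; rfl
    have k₂ : ∀ c, g₂ c = 0 ↔ Y.Γevaluation y₂ (c : Γ(Y, ⊤)) = 0 := fun c => by
      rw [← hφ, hy₂]; rfl
    have hker : RingHom.ker (evA π y₂) = RingHom.ker (evA π y₁) := Ideal.ext fun a =>
      (k₂ (g a)).symm.trans ((Iff.of_eq (congrArg (· = 0) (DFunLike.congr_fun h a).symm)).trans (k₁ (g a)))
    obtain ⟨a, s', hs', hv⟩ := exists_value π s hs y₁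
    let d : C := g s' * ⟨s, Algebra.subset_adjoin rfl⟩ - g a
    have hd : ∀ y, RingHom.ker (evA π y) = RingHom.ker (evA π y₁) → Y.Γevaluation y (d : Γ(Y, ⊤)) = 0 :=
      fun y hy => by
        show Y.Γevaluation y (π.appTop s' * s - π.appTop a) = 0
        rw [map_sub, map_mul]
        exact sub_eq_zero.2 (hv y hy)
    have e₁ : g₁ (g s') * g₁ ⟨s, Algebra.subset_adjoin rfl⟩ = g₁ (g a) := by
      rw [← map_mul, ← sub_eq_zero, ← map_sub]
      exact (k₁ d).2 (hd y₁ rfl)
    have e₂ : g₂ (g s') * g₂ ⟨s, Algebra.subset_adjoin rfl⟩ = g₂ (g a) := by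
      rw [← map_mul, ← sub_eq_zero, ← map_sub]
      exact (k₂ d).2 (hd y₂ hker)
    have hne : g₁ (g s') ≠ 0 := fun h0 => hs' ((k₁ _).1 h0)
    have hs12 : g₁ ⟨s, Algebra.subset_adjoin rfl⟩ = g₂ ⟨s, Algebra.subset_adjoin rfl⟩ := by
      refine mul_left_cancel₀ hne (e₁.trans ?_)
      rw [show g₁ (g a) = g₂ (g a) from DFunLike.congr_fun h a,
        show g₁ (g s') = g₂ (g s') from DFunLike.congr_fun h s', e₂]
    refine RingHom.ext fun c => ?_
    obtain ⟨c, hc⟩ := c
    induction hc using Algebra.adjoin_induction with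
    | mem x hx => cases hx; exact hs12
    | algebraMap r => exact DFunLike.congr_fun h r
    | add x y hx hy ihx ihy =>
      rw [show (⟨x + y, _⟩ : C) = ⟨x, hx⟩ + ⟨y, hy⟩ from rfl, map_add, map_add, ihx, ihy]
    | mul x y hx hy ihx ihy =>
      rw [show (⟨x * y, _⟩ : C) = ⟨x, hx⟩ * ⟨y, hy⟩ from rfl, map_mul, map_mul, ihx, ihy]
  obtain ⟨t, ht⟩ := AWNLib.mem_range_of_RF g hX hg ⟨s, Algebra.subset_adjoin rfl⟩ fun Q => by
    obtain ⟨y, rfl⟩ := hQ Q
    obtain ⟨a, s', hs', hv⟩ := exists_value π s hs y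
    refine ⟨a, s', fun h0 => hs' ((hφ y _).1 h0), (hφ y _).2 ?_⟩
    show Y.Γevaluation y (π.appTop s' * s - π.appTop a) = 0
    rw [map_sub, map_mul]
    exact sub_eq_zero.2 (hv y rfl)
  exact ⟨t, congrArg Subtype.val ht⟩

theorem app_injective_of_surjective [IsReduced X] (π : Y ⟶ X) [Surjective π] (U : X.Opens) :
    Function.Injective (π.app U) := by
  refine (injective_iff_map_eq_zero (π.app U).hom).2 fun a ha => eq_zero_of_basicOpen_eq_bot a ?_
  refine (Scheme.basicOpen_eq_bot_iff_forall_evaluation_eq_zero _ a).2 fun ⟨x, hx⟩ => ?_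
  obtain ⟨y, rfl⟩ := π.surjective x
  refine (π.residueFieldMap y).hom.injective ?_
  rw [map_zero]
  exact (Scheme.evaluation_naturality_apply π y hx a).trans ((congrArg _ ha).trans (map_zero _))

theorem existsUnique_descent (hX : HTop.IsSeminormal X) (π : Y ⟶ X) [IsProper π]
    [Surjective π] [IsReduced Y] (s : Γ(Y, ⊤))
    (hs : (Limits.pullback.fst π π).appTop s = (Limits.pullback.snd π π).appTop s) :
    ∃! t : Γ(X, ⊤), π.appTop t = s := by
  classical
  haveI := isReduced_of_isSeminormal hX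
  have loc : ∀ U : X.affineOpens, ∃ t : Γ(X, U.1), π.app U.1 t = Y.presheaf.map (homOfLE le_top).op s := by
    intro U
    haveI : IsAffine U.1.toScheme := U.2
    haveI : IsReduced (π ⁻¹ᵁ U.1).toScheme := isReduced_of_isOpenImmersion (π ⁻¹ᵁ U.1).ι
    haveI : Surjective (π ∣_ U.1) := IsZariskiLocalAtTarget.restrict ‹Surjective π› U.1
    have hsn : HTop.IsSeminormalRing Γ(U.1.toScheme, ⊤) :=
      AWNLib.isSeminormal_iff.1 (isSeminormal_opens hX U.1) ⟨⊤, isAffineOpen_top _⟩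
    let m := Limits.pullback.map (π ∣_ U.1) (π ∣_ U.1) π π (π ⁻¹ᵁ U.1).ι (π ⁻¹ᵁ U.1).ι U.1.ι
      (morphismRestrict_ι π U.1) (morphismRestrict_ι π U.1)
    obtain ⟨t, ht⟩ := exists_descent_affine hsn (π ∣_ U.1) ((π ⁻¹ᵁ U.1).ι.appTop s) (by
      rw [← ConcreteCategory.comp_apply, ← ConcreteCategory.comp_apply, ← Scheme.Hom.comp_appTop,
        ← Scheme.Hom.comp_appTop]
      have h1 : Limits.pullback.fst (π ∣_ U.1) (π ∣_ U.1) ≫ (π ⁻¹ᵁ U.1).ι = m ≫ Limits.pullback.fst π π :=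
        (Limits.pullback.lift_fst _ _ _).symm
      have h2 : Limits.pullback.snd (π ∣_ U.1) (π ∣_ U.1) ≫ (π ⁻¹ᵁ U.1).ι = m ≫ Limits.pullback.snd π π :=
        (Limits.pullback.lift_snd _ _ _).symm
      rw [h1, h2]
      exact congrArg m.appTop hs)
    refine ⟨U.1.topIso.hom t, ?_⟩
    have := congrArg (π ⁻¹ᵁ U.1).topIso.hom ht
    rw [← ConcreteCategory.comp_apply, ← ConcreteCategory.comp_apply] at this
    refine Eq.trans ?_ (this.trans ?_)
    · rw [← ConcreteCategory.comp_apply]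
      congr 2
      rw [morphismRestrict_appTop]
      simp [← Functor.map_comp]
      exact congrArg (_ ≫ ·) (congrArg Y.presheaf.map (Subsingleton.elim _ _))
    · simp
      rw [← CommRingCat.comp_apply, ← Functor.map_comp]
      exact congrArg (fun k => Y.presheaf.map k s) (Subsingleton.elim _ _)
  choose t ht using loc
  obtain ⟨T, hT, -⟩ := X.sheaf.existsUnique_gluing' (fun U : X.affineOpens => U.1) ⊤ (fun _ => homOfLE le_top)
    (iSup_affineOpens_eq_top X).ge t (fun U V => by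
      apply app_injective_of_surjective π (U.1 ⊓ V.1)
      show π.app _ (X.presheaf.map _ (t U)) = π.app _ (X.presheaf.map _ (t V))
      rw [← ConcreteCategory.comp_apply, ← ConcreteCategory.comp_apply, π.naturality, π.naturality,
        ConcreteCategory.comp_apply, ConcreteCategory.comp_apply, ht, ht, ← ConcreteCategory.comp_apply,
        ← ConcreteCategory.comp_apply, ← Functor.map_comp, ← Functor.map_comp]
      rfl)
  refine ⟨T, ?_, fun T' hT' => app_injective_of_surjective π ⊤ (hT'.trans ?_)⟩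
  rotate_left
  · symm
    refine TopCat.Sheaf.eq_of_locally_eq' Y.sheaf (fun U : X.affineOpens => π ⁻¹ᵁ U.1) ⊤ (fun _ => homOfLE le_top)
      (by rw [← Scheme.Hom.preimage_iSup, iSup_affineOpens_eq_top X]; rfl) _ _ fun U => ?_
    exact (ConcreteCategory.congr_hom (π.naturality (homOfLE (le_top : U.1 ≤ ⊤)).op) T).symm.trans
      ((congrArg (π.app U.1) (hT U)).trans (ht U))
  · refine TopCat.Sheaf.eq_of_locally_eq' Y.sheaf (fun U : X.affineOpens => π ⁻¹ᵁ U.1) ⊤ (fun _ => homOfLE le_top)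
      (by rw [← Scheme.Hom.preimage_iSup, iSup_affineOpens_eq_top X]; rfl) _ _ fun U => ?_
    exact (ConcreteCategory.congr_hom (π.naturality (homOfLE (le_top : U.1 ≤ ⊤)).op) T).symm.trans
      ((congrArg (π.app U.1) (hT U)).trans (ht U))

end SeminormResLib
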